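import Mathlib
import Cfsg.Agent.S0183
import Cfsg.Agent.Lib.Helper76.CT.Mat

/-!
# CT-groups: finite non-abelian simple groups in which commuting is transitive

`ct_core`: the classification of the finite non-abelian simple CT-groups as the groups
`PSL₂(2^f)`, `f ≥ 2`, given the conclusion of the theorem on groups with abelian involution
centralisers (statement S2202) for the group in question.  The odd order case is excluded by the
CN-theorem for odd order (S0183).
-/

set_option autoImplicit false

namespace Cfsg.Agent.Lib.Helper76.CT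

open Matrix

/-- A finite simple group which is not commutative is not solvable. -/
theorem ct_not_solvable {G : Type*} [Group G] [IsSimpleGroup G] (hG : ¬ IsMulCommutative G) :
    ¬ Group.IsSolvable G := by
  intro hs
  exact hG ⟨⟨IsSimpleGroup.comm_iff_isSolvable.mpr hs⟩⟩

/-- A finite non-commutative simple group of even order has no cyclic Sylow `2`-subgroup. -/
theorem ct_no_cyclic_sylow {G : Type*} [Group G] [Finite G] [IsSimpleGroup G]
    (hG : ¬ IsMulCommutative G) (heven : Even (Nat.card G)) (P : Sylow 2 G)
    (hP : IsCyclic ↥(P : Subgroup G)) : False := by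
  have h2 : 2 ∣ Nat.card G := even_iff_two_dvd.mp heven
  have hp : (Nat.card G).minFac = 2 := (Nat.minFac_eq_two_iff _).mpr h2
  have hc := IsCyclic.isComplement' hp hP
  have hcard := hc.card_mul_card
  have hPne : (P : Subgroup G) ≠ ⊥ := P.ne_bot_of_dvd_card h2
  have hnorm : (MonoidHom.transferSylow P (hP.normalizer_le_centralizer hp)).ker.Normal :=
    inferInstance
  rcases hnorm.eq_bot_or_eq_top with hb | ht
  · rw [hb, Subgroup.card_bot, one_mul] at hcard
    have htop : (P : Subgroup G) = ⊤ := Subgroup.eq_top_of_card_eq _ hcard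
    apply hG
    refine ⟨⟨fun a b => ?_⟩⟩
    have ha : a ∈ (P : Subgroup G) := htop ▸ Subgroup.mem_top a
    have hb' : b ∈ (P : Subgroup G) := htop ▸ Subgroup.mem_top b
    let _ := IsCyclic.commGroup (α := ↥(P : Subgroup G))
    have := mul_comm (⟨a, ha⟩ : ↥(P : Subgroup G)) ⟨b, hb'⟩
    exact congrArg Subtype.val this
  · rw [ht, Subgroup.card_top] at hcard
    have hpos : 0 < Nat.card G := Nat.card_pos
    have h1 : Nat.card ↥(P : Subgroup G) = 1 := by
      have : Nat.card G * Nat.card ↥(P : Subgroup G) = Nat.card G * 1 := by rw [hcard, mul_one]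
      exact Nat.eq_of_mul_eq_mul_left hpos this
    exact hPne ((Subgroup.card_eq_one).mp h1)

/-- A finite non-commutative simple group of even order has no normal Sylow `2`-subgroup. -/
theorem ct_no_normal_sylow {G : Type*} [Group G] [Finite G] [IsSimpleGroup G]
    (hG : ¬ IsMulCommutative G) (heven : Even (Nat.card G)) (P : Sylow 2 G)
    (hP : (P : Subgroup G).Normal) : False := by
  have h2 : 2 ∣ Nat.card G := even_iff_two_dvd.mp heven
  have hPne : (P : Subgroup G) ≠ ⊥ := P.ne_bot_of_dvd_card h2
  rcases hP.eq_bot_or_eq_top with hb | ht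
  · exact hPne hb
  · have hpg : IsPGroup 2 G := by
      intro g
      have hg : g ∈ (P : Subgroup G) := ht ▸ Subgroup.mem_top g
      obtain ⟨k, hk⟩ := P.2 ⟨g, hg⟩
      exact ⟨k, by simpa using congrArg Subtype.val hk⟩
    have hnil : Group.IsNilpotent G := hpg.isNilpotent
    exact ct_not_solvable hG inferInstance

/-- Commuting transitive on non-identity elements: centralisers of non-identity elements are
commutative. -/
theorem ct_centralizer_comm {G : Type*} [Group G]
    (hCT : ∀ a b c : G, a ≠ 1 → b ≠ 1 → c ≠ 1 → Commute a b → Commute b c → Commute a c)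
    (t : G) (ht : t ≠ 1) : IsMulCommutative ↥(Subgroup.centralizer ({t} : Set G)) := by
  refine ⟨⟨fun x y => ?_⟩⟩
  apply Subtype.ext
  show (x : G) * y = y * x
  by_cases hx : (x : G) = 1
  · rw [hx, one_mul, mul_one]
  by_cases hy : (y : G) = 1
  · rw [hy, one_mul, mul_one]
  have hxt : Commute (x : G) t := by
    have := Subgroup.mem_centralizer_iff.mp x.2 t (Set.mem_singleton t)
    exact this.symm
  have hty : Commute t (y : G) := by
    have := Subgroup.mem_centralizer_iff.mp y.2 t (Set.mem_singleton t)
    exact this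
  exact (hCT x t y hx ht hy hxt hty).eq

/-- A CT-group is a CN-group. -/
theorem ct_isCNGroup {G : Type*} [Group G]
    (hCT : ∀ a b c : G, a ≠ 1 → b ≠ 1 → c ≠ 1 → Commute a b → Commute b c → Commute a c) :
    Cfsg.IsCNGroup G := by
  intro g hg
  have hc := ct_centralizer_comm hCT g hg
  let _ : CommGroup ↥(Subgroup.centralizer ({g} : Set G)) :=
    { (inferInstance : Group ↥(Subgroup.centralizer ({g} : Set G))) with
      mul_comm := hc.is_comm.comm }
  exact CommGroup.isNilpotent

/-- The case `G ≃* SL₂(F) × A` of the theorem on abelian involution centralisers, for a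
non-commutative simple group `G`. -/
theorem ct_prod_case {G : Type*} [Group G] [Finite G] [IsSimpleGroup G]
    (hG : ¬ IsMulCommutative G) (heven : Even (Nat.card G))
    {F : Type} [Field F] [Fintype F] {A : Type} [CommGroup A] (hF : CharP F 2)
    (e : G ≃* Matrix.SpecialLinearGroup (Fin 2) F × A) :
    ∃ f : ℕ, 2 ≤ f ∧ Fintype.card F = 2 ^ f ∧
      Nonempty (G ≃* Matrix.ProjectiveSpecialLinearGroup (Fin 2) F) := by
  classical
  have h2 : (2 : F) = 0 := by
    have := CharP.cast_eq_zero F 2
    exact_mod_cast this
  -- the projection to `A` is trivial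
  let φ : G →* A := (MonoidHom.snd _ _).comp e.toMonoidHom
  have hφ : ∀ g : G, (e g).2 = 1 := by
    rcases (inferInstance : φ.ker.Normal).eq_bot_or_eq_top with hb | ht
    · exfalso
      apply hG
      refine ⟨⟨fun a b => ?_⟩⟩
      have hinj : Function.Injective φ := (MonoidHom.ker_eq_bot_iff φ).mp hb
      apply hinj
      rw [map_mul, map_mul, mul_comm]
    · intro g
      have : g ∈ φ.ker := ht ▸ Subgroup.mem_top g
      exact MonoidHom.mem_ker.mp this
  let e' : G ≃* Matrix.SpecialLinearGroup (Fin 2) F :=
    { toFun := fun g => (e g).1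
      invFun := fun x => e.symm (x, 1)
      left_inv := fun g => by
        have : ((e g).1, (1 : A)) = e g := Prod.ext rfl (hφ g).symm
        show e.symm ((e g).1, 1) = g
        rw [this, MulEquiv.symm_apply_apply]
      right_inv := fun x => by
        show (e (e.symm (x, 1))).1 = x
        rw [MulEquiv.apply_symm_apply]
      map_mul' := fun a b => by
        show (e (a * b)).1 = (e a).1 * (e b).1
        rw [map_mul]; rfl }
  have hiso : Nonempty (G ≃* Matrix.ProjectiveSpecialLinearGroup (Fin 2) F) :=
    ⟨e'.trans (ct_pslEquiv h2).symm⟩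
  obtain ⟨n, -, hn⟩ := FiniteField.card F 2
  by_cases hn2 : 2 ≤ (n : ℕ)
  · exact ⟨n, hn2, hn, hiso⟩
  · exfalso
    have hn1 : (n : ℕ) = 1 := by
      have := n.pos
      omega
    rw [hn1, pow_one] at hn
    have hGL : Nat.card (GL (Fin 2) F) = 6 := by
      rw [Matrix.card_GL_field, hn]
      simp [Fin.prod_univ_two]
    let ψ : G →* GL (Fin 2) F := Matrix.SpecialLinearGroup.toGL.comp e'.toMonoidHom
    have hψ : Function.Injective ψ := by
      intro a b hab
      apply e'.injective
      apply Subtype.ext
      have := congrArg (fun x : GL (Fin 2) F => (x : Matrix (Fin 2) (Fin 2) F)) hab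
      exact this
    have hdvd : Nat.card G ∣ 6 := hGL ▸ Subgroup.card_dvd_of_injective ψ hψ
    obtain ⟨P⟩ := (inferInstance : Nonempty (Sylow 2 G))
    obtain ⟨k, hk⟩ := (IsPGroup.iff_card).mp P.2
    have hP6 : 2 ^ k ∣ 6 := hk ▸ ((P : Subgroup G).card_subgroup_dvd_card.trans hdvd)
    have hk1 : k ≤ 1 := by
      by_contra hk2
      have h4 : 2 ^ 2 ∣ 2 ^ k := pow_dvd_pow 2 (by omega)
      have := h4.trans hP6
      omega
    have hcyc : IsCyclic ↥(P : Subgroup G) := by
      interval_cases k
      · rw [pow_zero] at hk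
        have : Subsingleton ↥(P : Subgroup G) := (Nat.card_eq_one_iff_unique.mp hk).1
        exact isCyclic_of_subsingleton
      · rw [pow_one] at hk
        exact isCyclic_of_prime_card hk
    exact ct_no_cyclic_sylow hG heven P hcyc

/-- **Finite simple CT-groups.**  A finite non-commutative simple group in which commuting is a
transitive relation on the non-identity elements is `PSL₂(2^f)`, `f ≥ 2`, and conversely; here
the theorem on groups with abelian involution centralisers (S2202) is taken as a hypothesis for
the group `G`. -/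
theorem ct_core {G : Type*} [Group G] [Finite G] [IsSimpleGroup G] (hG : ¬ IsMulCommutative G)
    (h2202 : Even (Nat.card G) →
      (∀ t : G, orderOf t = 2 → IsMulCommutative ↥(Subgroup.centralizer ({t} : Set G))) →
      (∀ P : Sylow 2 G, IsCyclic ↥P) ∨ (∀ P : Sylow 2 G, (P : Subgroup G).Normal) ∨
      (∃ (F : Type) (_ : Field F) (_ : Fintype F) (A : Type) (_ : CommGroup A) (_ : Finite A),
        CharP F 2 ∧ Odd (Nat.card A) ∧
        Nonempty (G ≃* Matrix.SpecialLinearGroup (Fin 2) F × A))) :
    (∀ a b c : G, a ≠ 1 → b ≠ 1 → c ≠ 1 → Commute a b → Commute b c → Commute a c) ↔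
    ∃ (F : Type) (_ : Field F) (_ : Fintype F) (f : ℕ), 2 ≤ f ∧ Fintype.card F = 2 ^ f ∧
      Nonempty (G ≃* Matrix.ProjectiveSpecialLinearGroup (Fin 2) F) := by
  constructor
  · intro hCT
    have heven : Even (Nat.card G) := by
      by_contra hne
      have hodd : Odd (Nat.card G) := Nat.not_even_iff_odd.mp hne
      exact ct_not_solvable hG (Cfsg.Agent.S0183.result hodd (ct_isCNGroup hCT))
    have hcent : ∀ t : G, orderOf t = 2 →
        IsMulCommutative ↥(Subgroup.centralizer ({t} : Set G)) := by
      intro t ht
      apply ct_centralizer_comm hCT t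
      intro h1
      rw [h1, orderOf_one] at ht
      omega
    obtain ⟨P⟩ := (inferInstance : Nonempty (Sylow 2 G))
    rcases h2202 heven hcent with h | h | ⟨F, hField, hFin, A, hA, -, hchar, -, ⟨e⟩⟩
    · exact (ct_no_cyclic_sylow hG heven P (h P)).elim
    · exact (ct_no_normal_sylow hG heven P (h P)).elim
    · obtain ⟨f, hf, hcard, hiso⟩ := ct_prod_case hG heven hchar e
      exact ⟨F, hField, hFin, f, hf, hcard, hiso⟩
  · rintro ⟨F, hField, hFin, f, -, hcard, ⟨e⟩⟩
    have h2 : (2 : F) = 0 := ct_two_eq_zero hcard
    intro a b c _ hb _ hab hbc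
    exact ct_trans_of_equiv e (fun a b c => ct_psl2_trans h2 a b c) a b c hb hab hbc

end Cfsg.Agent.Lib.Helper76.CT
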